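import Cfsg.Agent.CpAut.RankOne
import Cfsg.Agent.CpAutFiFive.SqRank
import Cfsg.Agent.KFacts.J2.Basic
import Cfsg.Agent.J2Type.ThreeF
import Cfsg.Agent.S0144
import Cfsg.Agent.S0496
import Cfsg.Agent.S0497
import Cfsg.Agent.S1620
import Cfsg.Agent.FastGrp
import Cfsg.Agent.Prune
set_option linter.all false
prune_inst 0x7f00000000000000000000000000000000000000000000000000000000000000000000000000000000000000000000000000000000000000000000000000000000000000000000000000000000000000003fffffffffffffffffffffffffffbeffbdffffffff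
open scoped Cfsg.Agent.FastGrp

/-!
# The row `TRows.j2` of S1814: `AutCT 3 J2` (helper51)

The centralizers of the elements of order three have order `1080` (components `A5`, `A6`, `3A6`) and `36`.
-/

set_option autoImplicit false

namespace Cfsg.Agent.CpAutTThree.JTwo

open Subgroup Cfsg Cfsg.Agent.CpAut Cfsg.Agent.SignalizersComponents

universe u

/-- a quasisimple group with centre a `p`-group and abelian Sylow `p`-subgroups has trivial centre -/
theorem center_eq_bot_of_abelian {L : Type u} [Group L] [Finite L] {p : ℕ} [hp : Fact p.Prime] (hL : IsQuasisimple L)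
    (hZ : IsPGroup p ↥(center L)) (h : ¬ p ^ 2 ∣ Nat.card (L ⧸ center L)) : center L = ⊥ := by
  obtain ⟨P⟩ : Nonempty (Sylow p L) := inferInstance
  have hZP : center L ≤ (P : Subgroup L) := by
    obtain ⟨Q, hQ⟩ := hZ.exists_le_sylow
    obtain ⟨g, hg⟩ := MulAction.exists_smul_eq L Q P
    intro z hz
    rw [← hg]
    refine ⟨z, hQ hz, ?_⟩
    change g * z * g⁻¹ = z
    rw [mem_center_iff.1 hz g, mul_inv_cancel_right]
  -- `P / Z` is cyclic
  have hab : ∀ a ∈ (P : Subgroup L), ∀ b ∈ (P : Subgroup L), a * b = b * a := by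
    let f : ↥(P : Subgroup L) →* L ⧸ center L := (QuotientGroup.mk' (center L)).comp (P : Subgroup L).subtype
    have hcyc : IsCyclic ↥f.range := by
      have hpg : IsPGroup p ↥f.range := by
        have h1 : IsPGroup p ↥((⊤ : Subgroup ↥(P : Subgroup L)).map f) := (P.isPGroup'.to_subgroup ⊤).map f
        rwa [← MonoidHom.range_eq_map] at h1
      obtain ⟨k, hk⟩ := IsPGroup.iff_card.1 hpg
      have hk1 : k ≤ 1 := by
        by_contra hcon
        push Not at hcon
        apply h
        refine (pow_dvd_pow p hcon).trans ?_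
        rw [← hk]
        exact f.range.card_subgroup_dvd_card
      have hcases : k = 0 ∨ k = 1 := by omega
      rcases hcases with rfl | rfl
      · rw [pow_zero] at hk
        have : Subsingleton ↥f.range := (Nat.card_eq_one_iff_unique.1 hk).1
        infer_instance
      · rw [pow_one] at hk
        exact isCyclic_of_prime_card hk
    have hker : f.ker ≤ center ↥(P : Subgroup L) := by
      intro a ha
      have h1 : (a : L) ∈ center L := (QuotientGroup.eq_one_iff _).1 ha
      rw [mem_center_iff]
      intro b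
      exact Subtype.ext (mem_center_iff.1 h1 b)
    intro a ha b hb
    have h1 := commutative_of_cyclic_center_quotient f.rangeRestrict (by
      rw [MonoidHom.ker_rangeRestrict]; exact hker) ⟨a, ha⟩ ⟨b, hb⟩
    exact congrArg Subtype.val h1
  rw [eq_bot_iff]
  intro z hz
  rw [mem_bot]
  exact central_eq_one hL.1 P hab hz (hZP hz)

/-- quasisimple groups of order dividing `1080` with centre a 3-group -/
theorem inCT_of_dvd (hS : AllKnown.{u}) {H : Type u} [Group H] [Finite H]
    (K : Subgroup (H ⧸ pPrimeCore 3 H)) (hK : IsComponent K) (hc : Nat.card ↥K ∣ 1080) : InCT 3 ↥K := by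
  have : Fact (Nat.Prime 3) := ⟨Nat.prime_three⟩
  have hZ : IsPGroup 3 ↥(center ↥K) := isPGroup_center_comp Nat.prime_three K hK
  have hs : IsSimpleGroup (↥K ⧸ center ↥K) := hK.2.2
  have h6 : Nat.card ↥K = Nat.card (↥K ⧸ center ↥K) * Nat.card ↥(center ↥K) :=
    Subgroup.card_eq_card_quotient_mul_card_subgroup _
  have hd : Nat.card (↥K ⧸ center ↥K) ∣ 1080 := by
    refine Dvd.dvd.trans ?_ hc
    rw [h6]
    exact dvd_mul_right _ _
  have hne : ¬ IsMulCommutative (↥K ⧸ center ↥K) := by
    intro hcm
    apply Components.quasisimple_not_isSolvable hK.2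
    have h1 : Group.IsSolvable (↥K ⧸ center ↥K) := Group.isSolvable_of_comm (fun a b => hcm.is_comm.comm a b)
    have h2 : Group.IsSolvable ↥(center ↥K) :=
      Group.isSolvable_of_comm (fun a b => Subtype.ext (mem_center_iff.1 b.2 a))
    exact (Group.isSolvable_iff_subgroup_quotient (center ↥K)).2 ⟨h2, h1⟩
  have hle : Nat.card (↥K ⧸ center ↥K) ≤ 1092 := (Nat.le_of_dvd (by norm_num) hd).trans (by norm_num)
  have hcases := Cfsg.Agent.S0496.result hne hle
  have h60 : Nat.card (↥K ⧸ center ↥K) = 60 ∨ Nat.card (↥K ⧸ center ↥K) = 360 := by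
    rcases hcases with h | h | h | h | h | h
    · exact Or.inl h
    · rw [h] at hd; norm_num at hd
    · exact Or.inr h
    · rw [h] at hd; norm_num at hd
    · rw [h] at hd; norm_num at hd
    · rw [h] at hd; norm_num at hd
  rcases h60 with h60 | h360
  · have hc1 := center_eq_bot_of_abelian hK.2 hZ (by rw [h60]; norm_num)
    have hcK : Nat.card ↥K = 60 := by
      rw [h6, h60, hc1, card_bot]
    refine inCT_of_rank_one hS Nat.prime_three (by norm_num) K hK ?_
    refine CpAutFiFive.SqRank.prankLE_of_not_dvd Nat.prime_three ?_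
    rw [hcK]
    norm_num
  · obtain ⟨e⟩ := Cfsg.Agent.S0497.result h360
    have hcen : Nat.card ↥(center ↥K) ∣ 3 := by
      have h7 : 360 * Nat.card ↥(center ↥K) ∣ 360 * 3 := by
        rw [h6, h360] at hc
        exact hc
      exact Nat.dvd_of_mul_dvd_mul_left (by norm_num) h7
    rcases (Nat.dvd_prime Nat.prime_three).1 hcen with h1 | h3
    · left
      refine ⟨hK.2, hZ, Or.inr (Or.inl ⟨6, Or.inr (Or.inl rfl), ⟨e⟩⟩), ?_⟩
      rintro (⟨h4, -⟩ | ⟨-, h4, -⟩)
      · norm_num at h4
      · rw [h1] at h4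
        norm_num at h4
    · right
      refine ⟨hK.2, hZ, hS _, ?_, Or.inr (Or.inl ⟨rfl, ?_⟩)⟩
      · intro hC
        exact hC.2.2.2 (Or.inr ⟨rfl, h3, Or.inl ⟨e⟩⟩)
      · right; right; right; right; right; right; right
        exact ⟨h3, ⟨e⟩⟩

theorem card_cent_conj {G : Type*} [Group G] (g w : G) :
    Nat.card (centralizer ({g * w * g⁻¹} : Set G)) = Nat.card (centralizer ({w} : Set G)) := by
  have h1 : (centralizer ({w} : Set G)).map (MulAut.conj g).toMonoidHom = centralizer ({g * w * g⁻¹} : Set G) := by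
    ext u
    rw [mem_centralizer_singleton_iff]
    constructor
    · rintro ⟨c, hc, rfl⟩
      have hc' := mem_centralizer_singleton_iff.1 hc
      change g * c * g⁻¹ * (g * w * g⁻¹) = g * w * g⁻¹ * (g * c * g⁻¹)
      calc g * c * g⁻¹ * (g * w * g⁻¹) = g * (c * w) * g⁻¹ := by group
        _ = g * (w * c) * g⁻¹ := by rw [hc']
        _ = _ := by group
    · intro hu
      refine ⟨g⁻¹ * u * g, ?_, by change g * (g⁻¹ * u * g) * g⁻¹ = u; group⟩
      rw [SetLike.mem_coe, mem_centralizer_singleton_iff]
      calc g⁻¹ * u * g * w = g⁻¹ * (u * (g * w * g⁻¹)) * g := by group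
        _ = g⁻¹ * (g * w * g⁻¹ * u) * g := by rw [hu]
        _ = _ := by group
  rw [← h1, card_map_of_injective (MulAut.conj g).injective]

theorem comps (hS : AllKnown.{u}) {G : Type u} [Group G] [Finite G] {z w : G} (h : J2Type.Base.Fus z w) {x : G}
    (hx : orderOf x = 3) : CompsCT 3 ↥(centralizer ({x} : Set G)) := by
  obtain ⟨a, b, ha, hb, hca, hcb, hcl, -⟩ := J2Type.ThreeF.main h
  have key : ∀ c : G, IsConj x c → Nat.card ↥(centralizer ({x} : Set G)) = Nat.card ↥(centralizer ({c} : Set G)) := by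
    intro c hxc
    obtain ⟨g, rfl⟩ := isConj_iff.1 hxc
    exact (card_cent_conj g x).symm
  rcases hcl x hx with h1 | h1
  · intro K hK
    refine inCT_of_dvd hS K hK ?_
    rw [← hca, ← key a h1]
    exact (K.card_subgroup_dvd_card).trans (Subgroup.card_quotient_dvd_card _)
  · apply CompsCT.of_solvable
    refine Cfsg.Agent.S0144.result 2 3 2 2 Nat.prime_two Nat.prime_three ?_
    rw [key b h1, hcb]
    norm_num

theorem finite_J2 : Finite Spor.J2 :=
  Nat.finite_of_card_ne_zero (by rw [Cfsg.Agent.S1619.result.2.2.2]; norm_num)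

/-- the elements of order three of `J2`: `|C(x)| = 1080` or `36` -/
theorem card_three {x : Spor.J2} (hx : orderOf x = 3) :
    Nat.card ↥(centralizer ({x} : Set Spor.J2)) = 1080 ∨ Nat.card ↥(centralizer ({x} : Set Spor.J2)) = 36 := by
  have hfin := finite_J2
  obtain ⟨t, w, Q, v, ρ, D⟩ := KFacts.J2.Basic.exists_dat
  obtain ⟨a, b, ha, hb, hca, hcb, hcl, -⟩ := J2Type.ThreeF.main D.F
  have key : ∀ c : Spor.J2, IsConj x c →
      Nat.card ↥(centralizer ({x} : Set Spor.J2)) = Nat.card ↥(centralizer ({c} : Set Spor.J2)) := by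
    intro c hxc
    obtain ⟨g, rfl⟩ := isConj_iff.1 hxc
    exact (card_cent_conj g x).symm
  rcases hcl x hx with h1 | h1
  · exact Or.inl ((key a h1).trans hca)
  · exact Or.inr ((key b h1).trans hcb)

theorem autInner_three : AutInner 3 Spor.J2 := by
  have hfin := finite_J2
  obtain ⟨t, w, Q, v, ρ, D⟩ := KFacts.J2.Basic.exists_dat
  exact autInner_of_sq Nat.prime_three (by norm_num) fun x => D.sq_inner x

/-- **`AutCT 3 J2`**, row `TRows.j2` -/
theorem autCT (hS : AllKnown.{0}) : AutCT 3 Spor.J2 := by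
  have hfin := finite_J2
  obtain ⟨t, w, Q, v, ρ, D⟩ := KFacts.J2.Basic.exists_dat
  have hcard := D.card
  have hcen : center Spor.J2 = ⊥ := by
    have hs := Cfsg.Agent.S1620.result.1
    apply center_eq_bot_of_simple
    intro h
    let _ : CommGroup Spor.J2 := { (inferInstance : Group Spor.J2) with mul_comm := fun a b => h.is_comm.comm a b }
    have h1 : (Nat.card Spor.J2).Prime := IsSimpleGroup.prime_card (α := Spor.J2)
    rw [hcard] at h1
    norm_num at h1
  exact autCT_of_inner hcen (autInner_of_sq Nat.prime_three (by norm_num) fun x => D.sq_inner x)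
    fun g hg => comps hS D.F hg

end Cfsg.Agent.CpAutTThree.JTwo
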